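import Mathlib
import Cfsg.Agent.Helper84.SU3P.Words
import Cfsg.Agent.Helper9.PresTietze

/-!
helper9 for helper84's S2289 (presentation of `SU₃(q)` on three generators): the presented-group side.

`presentations_of_model`: from the model data (`Model`), the core injectivity statement, generation and the centre of the model
group, the group `SUJ bar` has a presentation on 3 generators with at most `d.rels.card + 13 + P.kc` relators, and its central
quotient one with one more relator.
-/

set_option autoImplicit false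

namespace Cfsg.Agent.Helper9.SU3P

open Matrix Polynomial Cfsg.Agent.Helper84.RU3 Cfsg.Agent.Helper96.SLPres
  Cfsg.Agent.Helper96.StemSLTwo Cfsg.Agent.Helper96.StPres Cfsg.Agent.Helper84.SU3P

section maps

variable {D : Type*} [Group D] {E : Type*} [Group E] {p : ℕ}

theorem map_wW (f : D →* E) (h u : D) : f (wW h u) = wW (f h) (f u) := by
  unfold wW
  simp only [map_mul, map_inv, map_uz]

theorem map_zW (f : D →* E) (P : Par p) (h u : D) (g : (ZMod p)[X]) :
    f (zW P h u g) = zW P (f h) (f u) g := by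
  unfold zW
  rw [map_PW, map_pow, map_wW]

theorem map_uW (f : D →* E) (P : Par p) (h u : D) (g g' : (ZMod p)[X]) :
    f (uW P h u g g') = uW P (f h) (f u) g g' := by
  unfold uW
  rw [map_mul, map_PW, map_zW]

theorem map_crossA (f : D →* E) (P : Par p) (u h t : D) :
    (crossA P u h t).map f = crossA P (f u) (f h) (f t) := by
  have h4 : f ((List.range P.kc).map fun i : ℕ => PW p (h ^ (P.q - 1)) (uz h u i) (P.gC i)).prod
      = ((List.range P.kc).map fun i : ℕ => PW p (f h ^ (P.q - 1)) (uz (f h) (f u) i) (P.gC i)).prod := by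
    rw [map_list_prod, List.map_map]
    congr 1
    apply List.map_congr_left
    intro i _
    simp only [Function.comp, map_PW, map_pow, map_uz]
  unfold crossA
  simp only [List.map_cons, List.map_nil, map_mul, map_inv, map_pow, map_zpow, map_wW, map_zW, map_uz,
    map_PW, h4]

theorem map_crossS (f : D →* E) (P : Par p) (u h t : D) :
    (crossS P u h t).map f = crossS P (f u) (f h) (f t) := by
  unfold crossS
  rw [List.map_map]
  apply List.map_congr_left
  intro j _
  simp only [Function.comp, map_mul, map_inv, map_pow, map_uW]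

theorem map_crossC (f : D →* E) (P : Par p) (u h : D) :
    (crossC P u h).map f = crossC P (f u) (f h) := by
  unfold crossC
  rw [List.map_map]
  apply List.map_congr_left
  intro j _
  simp only [Function.comp, map_mul, map_inv, map_uz, map_wW]

theorem map_crossWords (f : D →* E) (P : Par p) (u h t : D) :
    (crossWords P u h t).map f = crossWords P (f u) (f h) (f t) := by
  unfold crossWords
  rw [List.map_append, List.map_append, map_crossA, map_crossS, map_crossC]

end maps

section main

variable {K : Type*} [Field K] (bar : K →+* K) {p : ℕ}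
  {K₀ : Type*} [Field K₀] (ι : K₀ →+* K)

/-- the free generator `u` -/
abbrev gU : FreeGroup (Fin 3) := FreeGroup.of 0
/-- the free generator `h` -/
abbrev gH : FreeGroup (Fin 3) := FreeGroup.of 1
/-- the free generator `t` -/
abbrev gT : FreeGroup (Fin 3) := FreeGroup.of 2

/-- the substitution `(x, h, w) ↦ (W, H^n1, Y2)` of the generators of `SL₂` -/
noncomputable def sub (P : Par p) (Y2 : FreeGroup (Fin 3)) : FreeGroup (Fin 3) →* FreeGroup (Fin 3) :=
  FreeGroup.lift ![wW gH gU, gH ^ P.n1, Y2]

/-- the relators of `SU₃` -/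
noncomputable def relsSU (d : SLP K₀) (P : Par p) (Y2 : FreeGroup (Fin 3)) : Finset (FreeGroup (Fin 3)) :=
  d.rels.image (sub P Y2) ∪ {gT⁻¹ * sub P Y2 d.ww} ∪ (crossWords P gU gH gT).toFinset

theorem card_relsSU (d : SLP K₀) (P : Par p) (Y2 : FreeGroup (Fin 3)) :
    (relsSU d P Y2).card ≤ d.rels.card + 13 + P.kc := by
  unfold relsSU
  have h1 := Finset.card_union_le (d.rels.image (sub P Y2) ∪ {gT⁻¹ * sub P Y2 d.ww})
    (crossWords P gU gH gT).toFinset
  have h2 := Finset.card_union_le (d.rels.image (sub P Y2)) {gT⁻¹ * sub P Y2 d.ww}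
  have h3 : (d.rels.image (sub P Y2)).card ≤ d.rels.card := Finset.card_image_le
  have h4 : ({gT⁻¹ * sub P Y2 d.ww} : Finset (FreeGroup (Fin 3))).card = 1 := Finset.card_singleton _
  have h5 : (crossWords P gU gH gT).toFinset.card ≤ 12 + P.kc := by
    rw [← length_crossWords P gU gH gT]
    exact List.toFinset_card_le _
  omega

/-- a homomorphism from the free group on three generators is the lift of its values -/
theorem hom_eq_lift {E : Type*} [Group E] (f : FreeGroup (Fin 3) →* E) :
    f = FreeGroup.lift ![f gU, f gH, f gT] := by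
  apply FreeGroup.ext_hom
  intro i
  fin_cases i <;> simp [gU, gH, gT]

/-- the image of a substituted word -/
theorem map_sub {E : Type*} [Group E] (f : FreeGroup (Fin 3) →* E) (P : Par p) (Y2 : FreeGroup (Fin 3))
    (r : FreeGroup (Fin 3)) :
    f (sub P Y2 r) = FreeGroup.lift ![wW (f gH) (f gU), f gH ^ P.n1,
      FreeGroup.lift ![f gU, f gH, f gT] Y2] r := by
  have h : f.comp (sub P Y2) = FreeGroup.lift ![wW (f gH) (f gU), f gH ^ P.n1,
      FreeGroup.lift ![f gU, f gH, f gT] Y2] := by
    apply FreeGroup.ext_hom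
    intro i
    have hY : f Y2 = FreeGroup.lift ![f gU, f gH, f gT] Y2 := by
      conv_lhs => rw [hom_eq_lift f]
    fin_cases i
    · simp [sub, map_wW]
    · simp [sub]
    · simp [sub, hY]
  exact DFunLike.congr_fun h r

/-- a cyclic centre is transported by an isomorphism -/
theorem isCyclic_center_of_equiv {G : Type*} [Group G] {S : Type*} [Group S] (φ : G ≃* S) (c : G)
    (hc : c ∈ Subgroup.center G) (hall : ∀ g ∈ Subgroup.center G, ∃ i : ℕ, g = c ^ i) :
    IsCyclic (Subgroup.center S) := by
  have hφc : φ c ∈ Subgroup.center S := by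
    rw [Subgroup.mem_center_iff]
    intro g
    obtain ⟨g', rfl⟩ := φ.surjective g
    rw [← map_mul, ← map_mul, (Subgroup.mem_center_iff.mp hc) g']
  refine ⟨⟨⟨φ c, hφc⟩, ?_⟩⟩
  rintro ⟨g, hg⟩
  have hg' : φ.symm g ∈ Subgroup.center G := by
    rw [Subgroup.mem_center_iff]
    intro x
    apply φ.injective
    rw [map_mul, map_mul, φ.apply_symm_apply]
    exact (Subgroup.mem_center_iff.mp hg) (φ x)
  obtain ⟨i, hi⟩ := hall _ hg'
  refine Subgroup.mem_zpowers_iff.mpr ⟨(i : ℤ), ?_⟩
  apply Subtype.ext
  rw [zpow_natCast]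
  change (φ c) ^ i = g
  rw [← map_pow, ← hi, φ.apply_symm_apply]

variable [Fact p.Prime] [Algebra (ZMod p) K]

/-- the presented group maps isomorphically onto the model group -/
theorem exists_equiv_of_model (d : SLP K₀) (P : Par p) (Y2 : FreeGroup (Fin 3)) (M : Model bar ι d P Y2)
    (hcore : ∀ {D : Type} [Group D] (π : D →* SUJ bar) (u h t : D),
      Subgroup.closure {u, h, t} = ⊤ → π u = M.U₀ → π h = M.H₀ → π t = M.T₀ →
      (∀ r ∈ d.rels, FreeGroup.lift ![wW h u, h ^ P.n1, FreeGroup.lift ![u, h, t] Y2] r = 1) →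
      FreeGroup.lift ![wW h u, h ^ P.n1, FreeGroup.lift ![u, h, t] Y2] d.ww = t →
      (∀ r ∈ crossWords P u h t, r = 1) → Function.Injective π)
    (hgen : Subgroup.closure {M.U₀, M.H₀, M.T₀} = ⊤) :
    Nonempty (PresentedGroup (↑(relsSU d P Y2) : Set (FreeGroup (Fin 3))) ≃* SUJ bar) := by
  classical
  -- the map of the free group to the model
  set F0 : FreeGroup (Fin 3) →* SUJ bar := FreeGroup.lift ![M.U₀, M.H₀, M.T₀] with hF0
  have hF0U : F0 gU = M.U₀ := by simp [hF0, gU]
  have hF0H : F0 gH = M.H₀ := by simp [hF0, gH]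
  have hF0T : F0 gT = M.T₀ := by simp [hF0, gT]
  -- substituted words go to the embedded `SL₂`
  have hsubM : ∀ r : FreeGroup (Fin 3), F0 (sub P Y2 r) = M.eL (d.pi (PresentedGroup.mk _ r)) := by
    intro r
    rw [map_sub, hF0U, hF0H, hF0T, M.hW, M.hHL, M.hY2]
    have h : FreeGroup.lift ![M.eL (uMat K₀ 1), M.eL (dMat d.z d.hz0),
        M.eL (d.pi (PresentedGroup.of 2))]
        = (M.eL.comp d.pi).comp (PresentedGroup.mk (↑d.rels : Set (FreeGroup (Fin 3)))) := by
      apply FreeGroup.ext_hom
      intro i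
      fin_cases i
      · simp only [Fin.zero_eta, FreeGroup.lift_apply_of, Matrix.cons_val_zero, MonoidHom.comp_apply]
        rw [← d.pi_u]; rfl
      · simp only [Fin.mk_one, FreeGroup.lift_apply_of, Matrix.cons_val_one, Matrix.cons_val_zero,
          MonoidHom.comp_apply]
        rw [← d.pi_h]; rfl
      · simp only [FreeGroup.lift_apply_of, MonoidHom.comp_apply]
        rfl
    rw [h]
    rfl
  -- the relators hold in the model
  have hrel : ∀ r ∈ (↑(relsSU d P Y2) : Set (FreeGroup (Fin 3))), F0 r = 1 := by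
    intro r hr
    rw [Finset.mem_coe, relsSU, Finset.mem_union, Finset.mem_union, Finset.mem_image,
      Finset.mem_singleton, List.mem_toFinset] at hr
    rcases hr with (⟨r0, hr0, rfl⟩ | rfl) | hr
    · rw [hsubM, PresentedGroup.one_of_mem (Finset.mem_coe.mpr hr0), map_one, map_one]
    · rw [map_mul, map_inv, hsubM, d.pi_w, ← M.hT, hF0T, inv_mul_cancel]
    · have h1 : F0 r ∈ (crossWords P gU gH gT).map F0 := List.mem_map_of_mem hr
      rw [map_crossWords, hF0U, hF0H, hF0T] at h1
      exact M.hcross _ h1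
  set G := PresentedGroup (↑(relsSU d P Y2) : Set (FreeGroup (Fin 3))) with hG
  set π : G →* SUJ bar := PresentedGroup.toGroup hrel with hπ
  set mk : FreeGroup (Fin 3) →* G := PresentedGroup.mk _ with hmk
  have hπmk : ∀ w, π (mk w) = F0 w := by
    intro w
    have : π.comp mk = F0 := by
      apply FreeGroup.ext_hom
      intro i
      simp only [MonoidHom.comp_apply]
      rw [hF0, FreeGroup.lift_apply_of]
      exact PresentedGroup.toGroup.of hrel
    exact DFunLike.congr_fun this w
  have hmem : ∀ r ∈ relsSU d P Y2, mk r = 1 :=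
    fun r hr => PresentedGroup.one_of_mem (Finset.mem_coe.mpr hr)
  -- injectivity
  have hinj : Function.Injective π := by
    apply hcore π (mk gU) (mk gH) (mk gT)
    · rw [eq_top_iff, ← PresentedGroup.closure_range_of, Subgroup.closure_le]
      rintro _ ⟨i, rfl⟩
      apply Subgroup.subset_closure
      fin_cases i
      · left; rfl
      · right; left; rfl
      · right; right; rfl
    · rw [hπmk, hF0U]
    · rw [hπmk, hF0H]
    · rw [hπmk, hF0T]
    · intro r hr
      rw [← map_sub mk P Y2 r]
      apply hmem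
      rw [relsSU, Finset.mem_union, Finset.mem_union]
      exact Or.inl (Or.inl (Finset.mem_image_of_mem _ hr))
    · rw [← map_sub mk P Y2 d.ww]
      have h1 : mk (gT⁻¹ * sub P Y2 d.ww) = 1 := by
        apply hmem
        rw [relsSU, Finset.mem_union, Finset.mem_union]
        exact Or.inl (Or.inr (Finset.mem_singleton_self _))
      rw [map_mul, map_inv, inv_mul_eq_one] at h1
      exact h1.symm
    · intro r hr
      rw [← map_crossWords mk P gU gH gT, List.mem_map] at hr
      obtain ⟨r0, hr0, rfl⟩ := hr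
      apply hmem
      rw [relsSU, Finset.mem_union]
      exact Or.inr (List.mem_toFinset.mpr hr0)
  -- surjectivity
  have hsurj : Function.Surjective π := by
    rw [← MonoidHom.range_eq_top, eq_top_iff, ← hgen, Subgroup.closure_le]
    rintro x (rfl | rfl | hx)
    · exact ⟨mk gU, by rw [hπmk, hF0U]⟩
    · exact ⟨mk gH, by rw [hπmk, hF0H]⟩
    · rw [Set.mem_singleton_iff] at hx
      rw [hx]
      exact ⟨mk gT, by rw [hπmk, hF0T]⟩
  exact ⟨MulEquiv.ofBijective π ⟨hinj, hsurj⟩⟩

/-- the two presentations, transported to any group `S` isomorphic to the model group -/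
theorem presentations_of_model {S : Type*} [Group S] (φ : SUJ bar ≃* S)
    (d : SLP K₀) (P : Par p) (Y2 : FreeGroup (Fin 3)) (M : Model bar ι d P Y2)
    (hcard : d.rels.card + P.kc ≤ 10)
    (hcore : ∀ {D : Type} [Group D] (π : D →* SUJ bar) (u h t : D),
      Subgroup.closure {u, h, t} = ⊤ → π u = M.U₀ → π h = M.H₀ → π t = M.T₀ →
      (∀ r ∈ d.rels, FreeGroup.lift ![wW h u, h ^ P.n1, FreeGroup.lift ![u, h, t] Y2] r = 1) →
      FreeGroup.lift ![wW h u, h ^ P.n1, FreeGroup.lift ![u, h, t] Y2] d.ww = t →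
      (∀ r ∈ crossWords P u h t, r = 1) → Function.Injective π)
    (hgen : Subgroup.closure {M.U₀, M.H₀, M.T₀} = ⊤) (m : ℕ)
    (hcen : M.H₀ ^ m ∈ Subgroup.center (SUJ bar) ∧
      ∀ g ∈ Subgroup.center (SUJ bar), ∃ i : ℕ, g = (M.H₀ ^ m) ^ i) :
    (∃ rels : Finset (FreeGroup (Fin 3)), rels.card ≤ 23 ∧
      Nonempty (PresentedGroup (↑rels : Set (FreeGroup (Fin 3))) ≃* S)) ∧
    (∃ rels : Finset (FreeGroup (Fin 3)), rels.card ≤ 24 ∧
      Nonempty (PresentedGroup (↑rels : Set (FreeGroup (Fin 3))) ≃* S ⧸ Subgroup.center S)) := by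
  obtain ⟨e⟩ := exists_equiv_of_model bar ι d P Y2 M hcore hgen
  have h23 : (relsSU d P Y2).card ≤ 23 := by
    have := card_relsSU d P Y2
    omega
  refine ⟨⟨relsSU d P Y2, h23, ⟨e.trans φ⟩⟩, ?_⟩
  have : IsCyclic (Subgroup.center S) := isCyclic_center_of_equiv φ _ hcen.1 hcen.2
  obtain ⟨rels', hc', hne'⟩ :=
    Cfsg.Agent.Helper9.PresTietze.exists_presentation_quotient_center (relsSU d P Y2) (e.trans φ)
  exact ⟨rels', by omega, hne'⟩

end main

end Cfsg.Agent.Helper9.SU3P
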