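import Cfsg.Agent.Helper9.SU3P.FinalA
import Cfsg.Agent.Helper84.SU3P.Core
import Cfsg.Agent.Helper48.SU3P_GEN
import Cfsg.Agent.Helper59.SU3P_CENT
import Cfsg.Agent.Helper86.RU3TR
import Cfsg.Agent.Helper45.GUBasic

/-!
helper9 for helper84's S2289: the final assembly (conclusion of S2289 verbatim) from helper84's `core_inj`
(landed), `closure_gens` (helper48), `center_SUJ` (helper59), with the one remaining input `exists_model`
as a hypothesis `hmodel` of exactly the Skel2 shape, specialised to the field `F`.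
-/

set_option autoImplicit false
set_option linter.style.haveILetI false

namespace Cfsg.Agent.Helper9.SU3P

open Matrix Polynomial Cfsg.Agent.Helper84.RU3 Cfsg.Agent.Helper96.SLPres
  Cfsg.Agent.Helper96.StemSLTwo Cfsg.Agent.Helper96.StPres Cfsg.Agent.Helper84.SU3P

universe u

/-- (MGEN) of Skel2 -/
theorem model_gen' {K : Type*} [Field K] [Fintype K] (bar : K →+* K) (hb : ∀ x, bar (bar x) = x)
    {p : ℕ} [Fact p.Prime] [Algebra (ZMod p) K]
    {K₀ : Type*} [Field K₀] [Fintype K₀] [Algebra (ZMod p) K₀] (ι : K₀ →+* K)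
    {q : ℕ} (hK : Fintype.card K = q ^ 2) (hq : ∀ x, bar x = x ^ q) (hq2 : q ≠ 2)
    (d : SLP K₀) (P : Par p) (Y2 : FreeGroup (Fin 3)) (M : Model bar ι d P Y2) :
    Subgroup.closure {M.U₀, M.H₀, M.T₀} = ⊤ :=
  Cfsg.Agent.Helper48.SU3P.closure_gens bar hb hK hq hq2 M.hζ M.U₀ M.H₀ M.T₀ M.ha₀ M.hε M.hU₀ M.hH₀ M.hT₀

/-- (MCEN) of Skel2 -/
theorem model_center' {K : Type*} [Field K] [Fintype K] (bar : K →+* K) (hb : ∀ x, bar (bar x) = x)
    {p : ℕ} [Fact p.Prime] [Algebra (ZMod p) K]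
    {K₀ : Type*} [Field K₀] [Fintype K₀] [Algebra (ZMod p) K₀] (ι : K₀ →+* K)
    {q : ℕ} (hK : Fintype.card K = q ^ 2) (hq : ∀ x, bar x = x ^ q)
    (d : SLP K₀) (P : Par p) (Y2 : FreeGroup (Fin 3)) (M : Model bar ι d P Y2) :
    M.H₀ ^ ((q ^ 2 - 1) / Nat.gcd 3 (q + 1)) ∈ Subgroup.center (SUJ bar) ∧
    ∀ g ∈ Subgroup.center (SUJ bar), ∃ i : ℕ, g = (M.H₀ ^ ((q ^ 2 - 1) / Nat.gcd 3 (q + 1))) ^ i :=
  Cfsg.Agent.Helper59.SU3P.center_SUJ bar hb hK hq M.hζ M.H₀ M.hH₀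

/-- **S2289 modulo `exists_model`**: the conclusion of S2289, given (as `hmodel`) the statement of
helper84's `exists_model` (Skel2) for the field `F`. -/
theorem su3_presentations_of_exists_model {F : Type u} [Field F] [Fintype F] (q : ℕ)
    (hF : Fintype.card F = q ^ 2) (h2 : q ≠ 2)
    (hmodel : ∀ (bar : F →+* F) (_hb : ∀ x, bar (bar x) = x) (p : ℕ) [Fact p.Prime]
      [Algebra (ZMod p) F] (K₀ : Type u) [Field K₀] [Fintype K₀] [Algebra (ZMod p) K₀]
      (ι : K₀ →+* F), (∀ x, bar x = x ^ q) → (∀ y : K₀, bar (ι y) = ι y) →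
      (∀ x : F, bar x = x → ∃ y : K₀, ι y = x) →
      ∃ (d : SLP K₀) (P : Par p) (Y2 : FreeGroup (Fin 3)),
        Nonempty (Model bar ι d P Y2) ∧ P.q = q ∧ d.rels.card + P.kc ≤ 10) :
    (∃ rels : Finset (FreeGroup (Fin 3)), rels.card ≤ 23 ∧
      Nonempty (PresentedGroup (↑rels : Set (FreeGroup (Fin 3))) ≃* ↥(Cfsg.SU 3 F q))) ∧
    (∃ rels : Finset (FreeGroup (Fin 3)), rels.card ≤ 24 ∧
      Nonempty (PresentedGroup (↑rels : Set (FreeGroup (Fin 3))) ≃* Cfsg.PSU 3 F q)) := by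
  classical
  obtain ⟨bar, hbar⟩ := Cfsg.Agent.Helper45.GU.exists_bar hF
  have hb : ∀ x, bar (bar x) = x := by
    intro x
    rw [hbar, hbar]
    exact Cfsg.Agent.Helper13.frob_frob hF x
  obtain ⟨φ, -⟩ := Cfsg.Agent.Helper86.RU3.exists_transfer hF bar hbar
  -- the characteristic
  haveI : Fact (ringChar F).Prime := ⟨CharP.char_is_prime F (ringChar F)⟩
  letI : Algebra (ZMod (ringChar F)) F := ZMod.algebra F (ringChar F)
  -- the fixed field
  let K₀ : Subfield F := RingHom.eqLocusField bar (RingHom.id F)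
  haveI : Fintype K₀ := Fintype.ofFinite _
  letI : Algebra (ZMod (ringChar F)) K₀ := ZMod.algebra K₀ (ringChar F)
  let ι : K₀ →+* F := K₀.subtype
  have hι : ∀ y : K₀, bar (ι y) = ι y := fun y => y.2
  have hιfix : ∀ x : F, bar x = x → ∃ y : K₀, ι y = x := fun x hx => ⟨⟨x, hx⟩, rfl⟩
  obtain ⟨d, P, Y2, ⟨M⟩, hPq, hcard⟩ := hmodel bar hb (ringChar F) K₀ ι hbar hι hιfix
  exact presentations_of_model bar ι φ d P Y2 M hcard
    (core_inj bar hb ι hF hbar h2 d P Y2 M hPq)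
    (model_gen' bar hb ι hF hbar h2 d P Y2 M) _
    (model_center' bar hb ι hF hbar d P Y2 M)

end Cfsg.Agent.Helper9.SU3P
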